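import Groth.Prelude.Def_AlgGrp
import Groth.Prelude.Def_W4bk4git07Quot
import Groth.Agent.AlgSpLib.Descends
import Mathlib.AlgebraicGeometry.Morphisms.FlatDescent

/-!
# Locally isotrivial bundles are principal
-/

set_option autoImplicit false
set_option linter.style.haveILetI false
set_option backward.isDefEq.respectTransparency false

universe u

open CategoryTheory CategoryTheory.Limits MonoidalCategory CartesianMonoidalCategory MonObj AlgebraicGeometry

attribute [local instance] CategoryTheory.Hom.monoid CategoryTheory.Hom.group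

namespace Groth.Agent.Deform.Bundle

/-- A property local on the target which descends may be checked on covers of opens of a base. -/
theorem of_local_cover {A B X : Scheme.{u}} (P : MorphismProperty Scheme.{u}) [IsZariskiLocalAtTarget P]
    [P.DescendsAlong (@Surjective ⊓ @Flat ⊓ @QuasiCompact)] (f : A ⟶ B) (r : B ⟶ X)
    (h : ∀ x : X, ∃ (U : X.Opens) (_ : x ∈ U) (V : Scheme.{u}) (φ : V ⟶ U), Surjective φ ∧ Flat φ ∧ QuasiCompact φ ∧
      ∃ (A' B' : Scheme.{u}) (cB : B' ⟶ B) (vB : B' ⟶ V) (cA : A' ⟶ A) (f' : A' ⟶ B'),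
        IsPullback cB vB r (φ ≫ U.ι) ∧ IsPullback cA f' f cB ∧ P f') : P f := by
  refine IsZariskiLocalAtTarget.of_forall_exists_morphismRestrict fun b => ?_
  obtain ⟨U, hbU, V, φ, hs, hf, hq, A', B', cB, vB, cA, f', hB, hA, hP⟩ := h (r b)
  refine ⟨r ⁻¹ᵁ U, hbU, ?_⟩
  haveI := hs; haveI := hf; haveI := hq
  let cB' : B' ⟶ (r ⁻¹ᵁ U : B.Opens).toScheme :=
    (isPullback_morphismRestrict r U).lift (vB ≫ φ) cB (by rw [Category.assoc, hB.w])
  have hB1 : cB' ≫ (r ⁻¹ᵁ U).ι = cB := (isPullback_morphismRestrict r U).lift_snd _ _ _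
  have hB' : IsPullback cB' vB (r ∣_ U) φ := by
    refine IsPullback.of_right ?_ ((isPullback_morphismRestrict r U).lift_fst _ _ _)
      (isPullback_morphismRestrict r U).flip |>.flip |>.flip
    rw [hB1]
    exact hB
  let cA' : A' ⟶ (f ⁻¹ᵁ (r ⁻¹ᵁ U) : A.Opens).toScheme :=
    (isPullback_morphismRestrict f (r ⁻¹ᵁ U)).lift (f' ≫ cB') cA (by rw [Category.assoc, hB1, hA.w])
  have hA' : IsPullback cA' f' (f ∣_ (r ⁻¹ᵁ U)) cB' := by
    refine IsPullback.of_right ?_ ((isPullback_morphismRestrict f (r ⁻¹ᵁ U)).lift_fst _ _ _)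
      (isPullback_morphismRestrict f (r ⁻¹ᵁ U)).flip
    rw [hB1, (isPullback_morphismRestrict f (r ⁻¹ᵁ U)).lift_snd]
    exact hA
  have hQ : (@Surjective ⊓ @Flat ⊓ @QuasiCompact : MorphismProperty Scheme.{u}) cB' :=
    MorphismProperty.of_isPullback hB'.flip ⟨⟨hs, hf⟩, hq⟩
  exact MorphismProperty.of_isPullback_of_descendsAlong (P := P) (Q := @Surjective ⊓ @Flat ⊓ @QuasiCompact)
    hA'.flip hQ hP

variable {S : Scheme.{u}} {G P X : Over S} [GrpObj G]

theorem act_act (a : AlgGrp.Action G P) {T : Over S} (h g : T ⟶ G) (y : T ⟶ P) :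
    lift h (lift g y ≫ a.act) ≫ a.act = lift (h * g) y ≫ a.act := by
  have := congrArg (fun m => lift (lift h g) y ≫ m) a.mul_act
  simp only [lift_whiskerRight_assoc, lift_lift_associator_hom_assoc, lift_whiskerLeft_assoc] at this
  rw [Hom.mul_def]
  exact this.symm

set_option maxHeartbeats 1000000 in
/-- **A locally isotrivial bundle is principal.** -/
theorem isotrivial_principal [Flat G.hom] (a : AlgGrp.Action G P) (π : P ⟶ X) (hinv : GIT.IsInvariant a π)
    (hli : ∀ x : ↥X.left, ∃ (U : X.left.Opens) (_ : x ∈ U) (U' : Scheme.{u}) (φ : U' ⟶ ↑U)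
      (_ : Surjective φ) (_ : Flat φ) (_ : QuasiCompact φ) (s : Over.mk (φ ≫ U.ι ≫ X.hom) ⟶ P),
      IsPullback (fst (Over.mk (φ ≫ U.ι ≫ X.hom)) G).left (lift (snd (Over.mk (φ ≫ U.ι ≫ X.hom)) G)
        (fst (Over.mk (φ ≫ U.ι ≫ X.hom)) G ≫ s) ≫ a.act).left (φ ≫ U.ι) π.left) :
    IsIso (GIT.PsiY a π hinv) ∧ Flat π.left := by
  constructor
  · refine of_local_cover (MorphismProperty.isomorphisms Scheme) (GIT.PsiY a π hinv)
      (pullback.fst π.left π.left ≫ π.left) fun x => ?_
    obtain ⟨U, hxU, U', φ, hs, hf, hqc, s, hsq⟩ := hli x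
    let V : Over S := Over.mk (φ ≫ U.ι ≫ X.hom)
    let q : V ⟶ X := Over.homMk (φ ≫ U.ι) (Category.assoc _ _ _)
    let w : V ⊗ G ⟶ P := lift (snd V G) (fst V G ≫ s) ≫ a.act
    have hV : IsPullback (fst V G) w q π :=
      IsPullback.of_map (Over.forget S) (Over.OverMorphism.ext hsq.w) hsq
    have hw : ∀ {T : Over S} (v : T ⟶ V) (g : T ⟶ G), lift v g ≫ w = lift g (v ≫ s) ≫ a.act := fun v g => by
      simp only [w, comp_lift_assoc, lift_fst_assoc, lift_snd]
    have hwq : ∀ {T : Over S} (v : T ⟶ V) (g : T ⟶ G), (lift v g ≫ w) ≫ π = v ≫ q := fun v g => by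
      rw [Category.assoc, ← hV.w, lift_fst_assoc]
    have huniq : ∀ {T : Over S} (v : T ⟶ V) (g g' : T ⟶ G), lift v g ≫ w = lift v g' ≫ w → g = g' := fun v g g' e => by
      have e' := hV.hom_ext ((lift_fst v g).trans (lift_fst v g').symm) e
      simpa using congrArg (· ≫ snd V G) e'
    let B : Over S := Over.mk (pullback.fst π.left π.left ≫ P.hom)
    let p₁ : B ⟶ P := Over.homMk (pullback.fst π.left π.left) rfl
    let p₂ : B ⟶ P := Over.homMk (pullback.snd π.left π.left) (by
      show pullback.snd π.left π.left ≫ P.hom = pullback.fst π.left π.left ≫ P.hom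
      rw [← Over.w π, ← pullback.condition_assoc])
    have hBk : IsPullback p₁ p₂ π π :=
      IsPullback.of_map (Over.forget S) (Over.OverMorphism.ext pullback.condition) (IsPullback.of_hasPullback _ _)
    let Ψ : G ⊗ P ⟶ B := Over.homMk (GIT.PsiY a π hinv) (by
      show GIT.PsiY a π hinv ≫ pullback.fst π.left π.left ≫ P.hom = _
      rw [GIT.PsiY, pullback.lift_fst_assoc, Over.w a.act])
    have hΨ1 : Ψ ≫ p₁ = a.act := Over.OverMorphism.ext (pullback.lift_fst _ _ _)
    have hΨ2 : Ψ ≫ p₂ = snd G P := Over.OverMorphism.ext (pullback.lift_snd _ _ _)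
    let v₀ := fst V (G ⊗ G)
    let h₀ := snd V (G ⊗ G) ≫ fst G G
    let g₀ := snd V (G ⊗ G) ≫ snd G G
    let cB : V ⊗ (G ⊗ G) ⟶ B := hBk.lift (lift v₀ (h₀ * g₀) ≫ w) (lift v₀ g₀ ≫ w) (by rw [hwq, hwq])
    let cA : V ⊗ (G ⊗ G) ⟶ G ⊗ P := lift h₀ (lift v₀ g₀ ≫ w)
    have hcB : IsPullback cB v₀ (p₁ ≫ π) q := by
      refine IsPullback.mk' ?_ ?_ ?_
      · rw [← Category.assoc, hBk.lift_fst, hwq]
      · intro T c c' e1 e2
        have e3 := congrArg (· ≫ p₁) e1
        have e4 := congrArg (· ≫ p₂) e1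
        simp only [Category.assoc, cB, hBk.lift_fst, hBk.lift_snd] at e3 e4
        rw [← Category.assoc c, ← Category.assoc c', comp_lift, comp_lift, e2] at e3 e4
        have hg := huniq _ _ _ e4
        have hh := huniq _ _ _ e3
        rw [MonObj.comp_mul, MonObj.comp_mul, hg] at hh
        have hh' := mul_right_cancel hh
        refine CartesianMonoidalCategory.hom_ext _ _ e2 (CartesianMonoidalCategory.hom_ext _ _ ?_ ?_)
        · rw [Category.assoc, Category.assoc]; exact hh'
        · rw [Category.assoc, Category.assoc]; exact hg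
      · intro T b v hbv
        let l₁ := hV.lift v (b ≫ p₁) (by rw [← hbv, Category.assoc])
        let l₂ := hV.lift v (b ≫ p₂) (by rw [← hbv, hBk.w, Category.assoc])
        have e₁ : lift v (l₁ ≫ snd V G) = l₁ := by
          apply CartesianMonoidalCategory.hom_ext <;> simp [l₁, hV.lift_fst]
        have e₂ : lift v (l₂ ≫ snd V G) = l₂ := by
          apply CartesianMonoidalCategory.hom_ext <;> simp [l₂, hV.lift_fst]
        refine ⟨lift v (lift ((l₁ ≫ snd V G) * (l₂ ≫ snd V G)⁻¹) (l₂ ≫ snd V G)), hBk.hom_ext ?_ ?_, lift_fst _ _⟩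
        · rw [Category.assoc, hBk.lift_fst, comp_lift_assoc, MonObj.comp_mul]
          simp only [v₀, h₀, g₀, lift_fst, lift_snd_assoc, lift_snd, inv_mul_cancel_right, e₁]
          exact hV.lift_snd _ _ _
        · rw [Category.assoc, hBk.lift_snd, comp_lift_assoc]
          simp only [v₀, g₀, lift_fst, lift_snd_assoc, lift_snd, e₂]
          exact hV.lift_snd _ _ _
    have hcA : IsPullback cA (𝟙 _) Ψ cB := by
      refine IsPullback.mk' ?_ ?_ ?_
      · rw [Category.id_comp]
        refine hBk.hom_ext ?_ ?_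
        · rw [Category.assoc, hΨ1, hBk.lift_fst]
          simp only [cA, hw, act_act]
        · rw [Category.assoc, hΨ2, hBk.lift_snd, lift_snd]
      · intro T c c' _ e
        simpa using e
      · intro T x c hxc
        refine ⟨c, ?_, Category.comp_id _⟩
        have e2 := congrArg (· ≫ p₂) hxc
        have e1 := congrArg (· ≫ p₁) hxc
        simp only [Category.assoc, hΨ1, hΨ2, cB, hBk.lift_fst, hBk.lift_snd] at e1 e2
        refine CartesianMonoidalCategory.hom_ext _ _ ?_ ?_
        · have hx : x = lift (x ≫ fst G P) (x ≫ snd G P) := by apply CartesianMonoidalCategory.hom_ext <;> simp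
          rw [Category.assoc, lift_fst]
          rw [hx, e2, comp_lift_assoc, comp_lift_assoc] at e1
          simp only [comp_lift_assoc, lift_fst_assoc, lift_snd, lift_snd_assoc] at e1
          rw [act_act, ← hw, MonObj.comp_mul] at e1
          exact (mul_right_cancel (huniq _ _ _ e1)).symm
        · rw [Category.assoc, lift_snd, e2]
    exact ⟨U, hxU, U', φ, hs, hf, hqc, _, _, cB.left, v₀.left, cA.left, 𝟙 _, hcB.map (Over.forget S),
      (hcA.map (Over.forget S)), inferInstanceAs (IsIso (𝟙 _))⟩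
  · refine of_local_cover @Flat π.left (𝟙 _) fun x => ?_
    obtain ⟨U, hxU, U', φ, hs, hf, hqc, s, hsq⟩ := hli x
    refine ⟨U, hxU, U', φ, hs, hf, hqc, _, U', φ ≫ U.ι, 𝟙 _, _, _, ?_, hsq.flip, ?_⟩
    · exact IsPullback.of_vert_isIso ⟨by simp⟩
    · exact MorphismProperty.pullback_fst (P := @Flat) (φ ≫ U.ι ≫ X.hom) G.hom inferInstance

end Groth.Agent.Deform.Bundle
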