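import Groth.Prelude.Def_AlgGrp
import Groth.Prelude.Def_W4bk4git07Quot
import Mathlib.AlgebraicGeometry.Morphisms.FlatDescent

/-!
# Equivariant maps of principal bundles are cartesian
-/

set_option autoImplicit false
set_option linter.style.haveILetI false
set_option backward.isDefEq.respectTransparency false

universe u

open CategoryTheory CategoryTheory.Limits MonoidalCategory CartesianMonoidalCategory MonObj AlgebraicGeometry

namespace Groth.Agent.Deform.Bundle

variable {S : Scheme.{u}}

/-- A pair of maps with a common source is cartesian as soon as it is so after a faithfully flat base change. -/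
theorem isPullback_of_cover {P X Y Z C X' : Scheme.{u}} {f : P ⟶ X} {g : P ⟶ Y} {h : X ⟶ Z} {l : Y ⟶ Z}
    (q : X' ⟶ X) [Flat q] [Surjective q] [QuasiCompact q] (w : f ≫ h = g ≫ l) {c₁ : C ⟶ P} {c₂ : C ⟶ X'}
    (h1 : IsPullback c₁ c₂ f q) (h2 : IsPullback (c₁ ≫ g) c₂ l (q ≫ h)) : IsPullback f g h l := by
  let φ : P ⟶ pullback h l := pullback.lift f g w
  have hφ1 : φ ≫ pullback.fst h l = f := pullback.lift_fst _ _ _
  have hφ2 : φ ≫ pullback.snd h l = g := pullback.lift_snd _ _ _
  have hc : (c₁ ≫ φ) ≫ pullback.fst h l = c₂ ≫ q := by rw [Category.assoc, hφ1, h1.w]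
  have hR : IsPullback (c₁ ≫ φ) c₂ (pullback.fst h l) q := by
    refine IsPullback.of_right ?_ hc (IsPullback.of_hasPullback h l).flip
    rw [Category.assoc, hφ2]
    exact h2
  have hA : IsPullback (𝟙 C) c₁ (c₁ ≫ φ) φ := by
    refine IsPullback.of_right ?_ (Category.id_comp _) hR.flip
    rw [Category.id_comp, hφ1]
    exact h1.flip
  have hQ : (@Surjective ⊓ @Flat ⊓ @QuasiCompact : MorphismProperty Scheme.{u}) (c₁ ≫ φ) :=
    MorphismProperty.of_isPullback hR.flip ⟨⟨inferInstance, inferInstance⟩, inferInstance⟩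
  haveI : IsIso φ :=
    MorphismProperty.of_isPullback_of_descendsAlong (P := MorphismProperty.isomorphisms Scheme)
      (Q := @Surjective ⊓ @Flat ⊓ @QuasiCompact) hA hQ (inferInstanceAs (IsIso (𝟙 C)))
  exact IsPullback.of_iso_pullback ⟨w⟩ (asIso φ) hφ1 hφ2

/-- The fibre pairs of a principal bundle. -/
theorem isPullback_psi {G X Y : Over S} [GrpObj G] (a : AlgGrp.Action G X) (φ : X ⟶ Y) (h : GIT.IsInvariant a φ)
    [IsIso (GIT.PsiY a φ h)] : IsPullback a.act.left (snd G X).left φ.left φ.left :=
  IsPullback.of_iso_pullback ⟨h.left⟩ (asIso (GIT.PsiY a φ h)) (pullback.lift_fst _ _ _) (pullback.lift_snd _ _ _)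

/-- Whiskering commutes with the second projection cartesianly. -/
theorem isPullback_whisker_snd (H : Over S) {P E : Over S} (f : P ⟶ E) :
    IsPullback (H ◁ f).left (snd H P).left (snd H E).left f.left := by
  refine IsPullback.of_right ?_ ?_ (IsPullback.of_hasPullback H.hom E.hom)
  · have e : (H ◁ f).left ≫ pullback.fst H.hom E.hom = pullback.fst H.hom P.hom := by
      rw [show (H ◁ f).left ≫ pullback.fst H.hom E.hom = ((H ◁ f) ≫ fst H E).left from rfl, whiskerLeft_fst]
      rfl
    rw [e, Over.w f]
    exact (IsPullback.of_hasPullback H.hom P.hom)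
  · exact congrArg CommaMorphism.left (whiskerLeft_snd H f)

/-- **An equivariant map of principal bundles is cartesian.** -/
theorem isPullback_of_equivariant {H P Q E B : Over S} [GrpObj H] (a : AlgGrp.Action H P) (q : P ⟶ Q)
    (hq : IsPullback a.act.left (snd H P).left q.left q.left) [Flat q.left] [Surjective q.left] [QuasiCompact q.left]
    (b : AlgGrp.Action H E) (π : E ⟶ B) (hπ : IsPullback b.act.left (snd H E).left π.left π.left) (f : P ⟶ E)
    (hf : a.act ≫ f = (H ◁ f) ≫ b.act) (p : Q ⟶ B) (hp : q ≫ p = f ≫ π) :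
    IsPullback q.left f.left p.left π.left := by
  have hp' : q.left ≫ p.left = f.left ≫ π.left := by
    rw [← Over.comp_left, hp, Over.comp_left]
  refine isPullback_of_cover q.left hp' hq ?_
  rw [hp', show a.act.left ≫ f.left = (H ◁ f).left ≫ b.act.left by rw [← Over.comp_left, hf, Over.comp_left]]
  exact (isPullback_whisker_snd H f).paste_horiz hπ

end Groth.Agent.Deform.Bundle
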